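import Cfsg.Agent.Lib.Helper35.PresM11P
import Cfsg.Agent.Lib.Helper35.TCFast

namespace Cfsg.Agent.Lib.Helper35.M11P11

open Cfsg.Agent.Lib.Helper35

set_option maxRecDepth 100000
noncomputable section
noncomputable def tA0 : Nat := 0x2c2b1e1d28691a2556172122131400
noncomputable def tJ0 : Nat := 0x4080000418002080010200000
noncomputable def tA1 : Nat := 0x7d9e00391c271b1835212423161200
noncomputable def tJ1 : Nat := 0x14300040008000080840600000
noncomputable def tA2 : Nat := 0x8e2a28004b271922463433211500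
noncomputable def tJ2 : Nat := 0x2000000000080
noncomputable def tA3 : Nat := 0xad00bb00c800000000000000000000
noncomputable def tJ3 : Nat := 0x71018800000000000000000
noncomputable def tP : Nat := 0x30b2986079d509184205000
def par : Par := ⟨8, 4, 255, 15, 271, 256⟩
def tabs : Nat → Nat
  | 0 => tA0
  | 1 => tA1
  | 2 => tA2
  | 3 => tA3
  | _ => 0
def pe (u : Nat) : Nat := Nat.land (Nat.shiftRight tP (Nat.mul u 6)) 63
def je0 (v : Nat) : Nat := Nat.land (Nat.shiftRight tJ0 (Nat.mul v 7)) 127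
def stp0 (off v : Nat) : Nat := Nat.land (Nat.add (Nat.land (Nat.shiftRight tA0 (Nat.mul v 8)) 255) off) 271
theorem stp0_eq : ∀ off v, stp0 off v = step par (tabs 0) off v := fun _ _ => rfl
attribute [irreducible] stp0
def je1 (v : Nat) : Nat := Nat.land (Nat.shiftRight tJ1 (Nat.mul v 7)) 127
def stp1 (off v : Nat) : Nat := Nat.land (Nat.add (Nat.land (Nat.shiftRight tA1 (Nat.mul v 8)) 255) off) 271
theorem stp1_eq : ∀ off v, stp1 off v = step par (tabs 1) off v := fun _ _ => rfl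
attribute [irreducible] stp1
def je2 (v : Nat) : Nat := Nat.land (Nat.shiftRight tJ2 (Nat.mul v 7)) 127
def stp2 (off v : Nat) : Nat := Nat.land (Nat.add (Nat.land (Nat.shiftRight tA2 (Nat.mul v 8)) 255) off) 271
theorem stp2_eq : ∀ off v, stp2 off v = step par (tabs 2) off v := fun _ _ => rfl
attribute [irreducible] stp2
def je3 (v : Nat) : Nat := Nat.land (Nat.shiftRight tJ3 (Nat.mul v 7)) 127
def stp3 (off v : Nat) : Nat := Nat.land (Nat.add (Nat.land (Nat.shiftRight tA3 (Nat.mul v 8)) 255) off) 271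
theorem stp3_eq : ∀ off v, stp3 off v = step par (tabs 3) off v := fun _ _ => rfl
attribute [irreducible] stp3
def je : Nat → Nat → Nat
  | 0 => je0
  | 1 => je1
  | 2 => je2
  | 3 => je3
  | _ => fun _ => 0
def st : Nat → Nat → Nat → Nat
  | 0 => stp0
  | 1 => stp1
  | 2 => stp2
  | 3 => stp3
  | _ => fun off v => step par 0 off v
theorem hst : ∀ l off v, st l off v = step par (tabs l) off v := by
  intro l off v
  rcases Nat.lt_or_ge l 4 with h | h
  · interval_cases l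
    exacts [stp0_eq off v, stp1_eq off v, stp2_eq off v, stp3_eq off v]
  · obtain ⟨k, rfl⟩ : ∃ k, l = k + 4 := ⟨l - 4, by omega⟩
    rfl
def SL : List (List (Cfsg.Agent.Lib.Helper35.M11P.Gen × Bool)) := [
  [(.y, true), (.x, true), (.y, true), (.x, true), (.y, false)],
  [(.x, true), (.y, true), (.x, true)]]
def S : List (List Nat) := [[1, 0, 1, 0, 2],
  [0, 1, 0]]
theorem hS : S = SL.map (List.map PresM11P.cc.colOf) := by decide +kernel
set_option maxRecDepth 100000
def lf0_1 : Leaf (walkS st) := ⟨[0], [], 0, 0, (fun off v => (stp0 off v)), (fun _ v => v), (fun _ u _ => u), fun _ _ => rfl, fun _ _ => rfl⟩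
def lf0_2 : Leaf (walkS st) := ⟨[], [2, 0, 1, 0, 2, 0, 2, 0, 1, 0, 1, 0, 2, 0, 1, 0, 2, 2], 6, 8, (fun _ v => v), (fun off v => (stp2 off (stp2 off (stp0 off (stp1 off (stp0 off (stp2 off (stp0 off (stp1 off (stp0 off (stp1 off (stp0 off (stp2 off (stp0 off (stp2 off (stp0 off (stp1 off (stp0 off (stp2 off v))))))))))))))))))), (fun v _ _ => v), fun _ _ => rfl, fun _ _ => rfl⟩
def lf0_3 : Leaf (walkS st) := ⟨[], [1, 0, 2, 0, 2, 0, 1, 0, 1, 0, 2, 0, 1, 0, 2, 2, 0, 2], 6, 6, (fun _ v => v), (fun off v => (stp2 off (stp0 off (stp2 off (stp2 off (stp0 off (stp1 off (stp0 off (stp2 off (stp0 off (stp1 off (stp0 off (stp1 off (stp0 off (stp2 off (stp0 off (stp2 off (stp0 off (stp1 off v))))))))))))))))))), (fun v _ _ => v), fun _ _ => rfl, fun _ _ => rfl⟩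
def tree0 : RTree (walkS st) :=
  (.node 1 .tleaf (.node 2 (.fork lf0_1) (.node 3 (.fork lf0_2) (.fork lf0_3))))
def lf1_1 : Leaf (walkS st) := ⟨[2], [], 2, 0, (fun off v => (stp2 off v)), (fun _ v => v), (fun _ u _ => u), fun _ _ => rfl, fun _ _ => rfl⟩
def lf1_2 : Leaf (walkS st) := ⟨[], [2, 2, 2], 3, 1, (fun _ v => v), (fun off v => (stp2 off (stp2 off (stp2 off v)))), (fun v _ _ => v), fun _ _ => rfl, fun _ _ => rfl⟩
def lf1_3 : Leaf (walkS st) := ⟨[1, 0], [1, 0], 0, 0, (fun off v => (stp0 off (stp1 off v))), (fun off v => (stp0 off (stp1 off v))), (fun _ _ _ => 1), fun _ _ => rfl, fun _ _ => rfl⟩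
def lf1_4 : Leaf (walkS st) := ⟨[0], [0], 1, 0, (fun off v => (stp0 off v)), (fun off v => (stp0 off v)), (fun _ _ _ => 1), fun _ _ => rfl, fun _ _ => rfl⟩
def lf1_5 : Leaf (walkS st) := ⟨[], [0, 2, 0, 2, 0, 2, 0, 2, 0, 2, 0, 2, 0, 2, 0, 2, 0, 2, 0, 2, 0], 4, 1, (fun _ v => v), (fun off v => (stp0 off (stp2 off (stp0 off (stp2 off (stp0 off (stp2 off (stp0 off (stp2 off (stp0 off (stp2 off (stp0 off (stp2 off (stp0 off (stp2 off (stp0 off (stp2 off (stp0 off (stp2 off (stp0 off (stp2 off (stp0 off v)))))))))))))))))))))), (fun v _ _ => v), fun _ _ => rfl, fun _ _ => rfl⟩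
def lf1_6 : Leaf (walkS st) := ⟨[], [0, 2, 2, 0, 2, 2, 0, 2, 2, 0, 2, 2, 0, 2, 2, 0, 2], 5, 1, (fun _ v => v), (fun off v => (stp2 off (stp0 off (stp2 off (stp2 off (stp0 off (stp2 off (stp2 off (stp0 off (stp2 off (stp2 off (stp0 off (stp2 off (stp2 off (stp0 off (stp2 off (stp2 off (stp0 off v)))))))))))))))))), (fun v _ _ => v), fun _ _ => rfl, fun _ _ => rfl⟩
def tree1 : RTree (walkS st) :=
  (.node 2 (.node 1 .tleaf (.fork lf1_1)) (.node 4 (.node 3 (.fork lf1_2) (.sub lf1_3)) (.node 5 (.sub lf1_4) (.node 6 (.fork lf1_5) (.fork lf1_6)))))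
def lf2_0 : Leaf (walkS st) := ⟨[1], [], 1, 0, (fun off v => (stp1 off v)), (fun _ v => v), (fun _ u _ => u), fun _ _ => rfl, fun _ _ => rfl⟩
def tree2 : RTree (walkS st) :=
  (.node 1 (.fork lf2_0) .tleaf)
def lf3_0 : Leaf (walkS st) := ⟨[], [1, 0, 2, 0, 1, 0, 1, 1, 0, 2, 0, 1, 0, 2, 0, 2, 0, 1, 0], 10, 16, (fun _ v => v), (fun off v => (stp0 off (stp1 off (stp0 off (stp2 off (stp0 off (stp2 off (stp0 off (stp1 off (stp0 off (stp2 off (stp0 off (stp1 off (stp1 off (stp0 off (stp1 off (stp0 off (stp2 off (stp0 off (stp1 off v)))))))))))))))))))), (fun v _ _ => v), fun _ _ => rfl, fun _ _ => rfl⟩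
def lf3_1 : Leaf (walkS st) := ⟨[0], [3, 0], 0, 0, (fun off v => (stp0 off v)), (fun off v => (stp0 off (stp3 off v))), (fun _ _ p => p), fun _ _ => rfl, fun _ _ => rfl⟩
def lf3_2 : Leaf (walkS st) := ⟨[2], [3, 2], 2, 0, (fun off v => (stp2 off v)), (fun off v => (stp2 off (stp3 off v))), (fun _ _ p => p), fun _ _ => rfl, fun _ _ => rfl⟩
def tree3 : RTree (walkS st) :=
  (.node 1 (.fork lf3_0) (.node 2 (.fork lf3_1) (.fork lf3_2)))
def trees : Nat → RTree (walkS st)
  | 0 => tree0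
  | 1 => tree1
  | 2 => tree2
  | 3 => tree3
  | _ => .tleaf
noncomputable def fs0 (v : Nat) : Bool := chkSlot par tA0 je0 pe 3 7 4 (deadF par tA3) (fun _ => 14) tree0 0 v
noncomputable def fs1 (v : Nat) : Bool := chkSlot par tA1 je1 pe 3 7 4 (deadF par tA3) (fun _ => 14) tree1 1 v
noncomputable def fs2 (v : Nat) : Bool := chkSlot par tA2 je2 pe 3 7 4 (deadF par tA3) (fun _ => 14) tree2 2 v
noncomputable def fs3 (v : Nat) : Bool := chkSlot par tA3 je3 pe 3 7 4 (fun _ => true) (fun v => Nat.pred v) tree3 3 v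
def gl (k : Nat) : Bool := liveF par tA3 (Nat.succ k)

end

end Cfsg.Agent.Lib.Helper35.M11P11
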