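import Cfsg.Agent.Lib.Helper35.PresM11P
import Cfsg.Agent.Lib.Helper35.TCFast
import Cfsg.Agent.Lib.Helper35.M11P11.Data

namespace Cfsg.Agent.Lib.Helper35.M11P11

open Cfsg.Agent.Lib.Helper35

set_option maxRecDepth 100000
noncomputable section
noncomputable def tQ0 : Nat := 0x9a873526401
@[irreducible] def p0 (i : Nat) : Nat := Nat.land (Nat.shiftRight tQ0 (Nat.mul i 4)) 15
noncomputable def tQ1 : Nat := 0xa8697340512
@[irreducible] def p1 (i : Nat) : Nat := Nat.land (Nat.shiftRight tQ1 (Nat.mul i 4)) 15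
noncomputable def tQ2 : Nat := 0xa7968245013
@[irreducible] def p2 (i : Nat) : Nat := Nat.land (Nat.shiftRight tQ2 (Nat.mul i 4)) 15
def pt : Nat → Nat → Nat
  | 0 => p0
  | 1 => p1
  | 2 => p2
  | _ => fun i => i
noncomputable def tT : Nat := 0x2475a64c248081000
def tp (i : Nat) : Nat := Nat.land (Nat.shiftRight tT (Nat.mul i 6)) 63
set_option maxRecDepth 100000
def rl0 : PLeaf pt := ⟨[1, 1, 1, 1], (fun i => (p1 (p1 (p1 (p1 i))))), fun _ => rfl⟩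
def rl1 : PLeaf pt := ⟨[0, 1, 0, 1, 0, 1, 0, 1, 0, 1, 0, 1, 0, 1, 0, 1, 0, 1, 0, 1, 0, 1], (fun i => (p1 (p0 (p1 (p0 (p1 (p0 (p1 (p0 (p1 (p0 (p1 (p0 (p1 (p0 (p1 (p0 (p1 (p0 (p1 (p0 (p1 (p0 i))))))))))))))))))))))), fun _ => rfl⟩
def rl2 : PLeaf pt := ⟨[0, 1, 1, 0, 1, 1, 0, 1, 1, 0, 1, 1, 0, 1, 1, 0, 1, 1], (fun i => (p1 (p1 (p0 (p1 (p1 (p0 (p1 (p1 (p0 (p1 (p1 (p0 (p1 (p1 (p0 (p1 (p1 (p0 i))))))))))))))))))), fun _ => rfl⟩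
def rl3 : PLeaf pt := ⟨[0, 1, 0, 1, 0, 2, 0, 1, 0, 1, 1, 0, 2, 0, 1, 0, 2, 0, 2], (fun i => (p2 (p0 (p2 (p0 (p1 (p0 (p2 (p0 (p1 (p1 (p0 (p1 (p0 (p2 (p0 (p1 (p0 (p1 (p0 i)))))))))))))))))))), fun _ => rfl⟩
def sl0 : PLeaf pt := ⟨[1, 0, 1, 0, 2], (fun i => (p2 (p0 (p1 (p0 (p1 i)))))), fun _ => rfl⟩
def sl1 : PLeaf pt := ⟨[0, 1, 0], (fun i => (p0 (p1 (p0 i)))), fun _ => rfl⟩
def rl : List (PLeaf pt) := [rl0, rl1, rl2, rl3]
def sl : List (PLeaf pt) := [sl0, sl1]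
noncomputable def fr (i : Nat) : Bool := fixAll rl i
def fc0 (i : Nat) : Bool := invChk p0 p0 11 i
def fc1 (i : Nat) : Bool := invChk p1 p2 11 i
def fc2 (i : Nat) : Bool := invChk p2 p1 11 i
def ft (i : Nat) : Bool := treeStep pt tp 4 3 i
noncomputable def tO : Nat := 0x29695a54b62900
def ot (i : Nat) : Nat := Nat.land (Nat.shiftRight tO (Nat.mul i 5)) 31
def rep : Nat → Nat
  | 0 => 0
  | 1 => 1
  | _ => 0
noncomputable def fo (j : Nat) : Bool := orbChk ot 3 rep sl j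
def fl0 (j : Nat) : Bool := Nat.beq (Nat.shiftRight (ot j) 3) 0
def fl1 (j : Nat) : Bool := Nat.beq (Nat.shiftRight (ot j) 3) 1

end

end Cfsg.Agent.Lib.Helper35.M11P11
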